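import Mathlib
import Cfsg.Agent.H526.OneBlock
import Cfsg.Agent.S0910
import Cfsg.Agent.S0205
import Cfsg.Agent.H167.HasStLie
import Cfsg.Agent.H652.Four.Base

/-!
# More rules for groups with more than one 2-block (S5004, S5007)

* `NB.of_component`: `K ≤ C_G(Q)` and every `K ^ c`, `c ∈ C_G(Q)`, is `K` or commutes with `K`;
* `NB.of_cover_chain`: `K ⊴ N ⊴ C_G(Q)`;
* `NB.of_odd_le`: a nontrivial subgroup of odd order normalized by `C_G(Q)`;
* `NB.of_odd_elements`: all elements of odd order of `C_G(Q)` lie in an abelian subgroup of `C_G(Q)`;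
* `NB.of_degree`: a nonprincipal irreducible character whose degree is a power of two;
* `NB.of_lie_two`: groups of Lie type in characteristic two;
* `NB.of_loc`: from `Loc` (helper652).
-/

set_option autoImplicit false
open Cfsg

namespace Cfsg.Agent.H526.OB

open Cfsg.Agent Cfsg.Agent.Characters.Core

universe u

section

variable {G : Type*} [Group G] [Finite G]

theorem NB.of_cover_chain (Q : Subgroup G) (hQ : IsPGroup 2 Q) (N K : Subgroup G)
    (hNQ : N ≤ Subgroup.centralizer (Q : Set G))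
    (hnN : ∀ c ∈ Subgroup.centralizer (Q : Set G), ∀ k ∈ N, c * k * c⁻¹ ∈ N)
    (hKN : K ≤ N) (hnK : ∀ c ∈ N, ∀ k ∈ K, c * k * c⁻¹ ∈ K)
    {S : Type*} [Group S] (f : K →* S) (hf : Function.Surjective f)
    (hker : f.ker ≤ Subgroup.center K) (h : NB S) : NB G := by
  refine NB.of_simple_le Q hQ N hNQ hnN ?_
  have hN : (K.subgroupOf N).Normal := by
    constructor
    intro k hk c
    rw [Subgroup.mem_subgroupOf] at hk ⊢
    exact hnK c c.2 _ hk
  have h1 : NB K := NB.of_surjective f hf hker h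
  exact NB.of_normal (K.subgroupOf N) (NB.iso (Subgroup.subgroupOfEquivOfLe hKN).symm h1)

/-- `K ≤ C_G(Q)`, every conjugate of `K` under `C_G(Q)` is contained in `K` or commutes with `K`. -/
theorem NB.of_component (Q : Subgroup G) (hQ : IsPGroup 2 Q) (K : Subgroup G)
    (hKQ : K ≤ Subgroup.centralizer (Q : Set G))
    (hn : ∀ c ∈ Subgroup.centralizer (Q : Set G), (∀ k ∈ K, c * k * c⁻¹ ∈ K) ∨
      (∀ k ∈ K, ∀ l ∈ K, (c * k * c⁻¹) * l = l * (c * k * c⁻¹)))
    {S : Type*} [Group S] (f : K →* S) (hf : Function.Surjective f)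
    (hker : f.ker ≤ Subgroup.center K) (h : NB S) : NB G := by
  set C := Subgroup.centralizer (Q : Set G) with hC
  let N : Subgroup G := Subgroup.closure {x | ∃ c ∈ C, ∃ k ∈ K, x = c * k * c⁻¹}
  have hgen : ∀ c ∈ C, ∀ k ∈ K, c * k * c⁻¹ ∈ N := fun c hc k hk =>
    Subgroup.subset_closure ⟨c, hc, k, hk, rfl⟩
  have hKN : K ≤ N := fun k hk => by
    have := hgen 1 C.one_mem k hk
    simpa using this
  have hNC : N ≤ C := by
    refine (Subgroup.closure_le _).2 ?_
    rintro x ⟨c, hc, k, hk, rfl⟩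
    exact C.mul_mem (C.mul_mem hc (hKQ hk)) (C.inv_mem hc)
  refine NB.of_cover_chain Q hQ N K hNC ?_ hKN ?_ f hf hker h
  · intro d hd x hx
    refine Subgroup.closure_induction (p := fun x _ => d * x * d⁻¹ ∈ N) ?_ ?_ ?_ ?_ hx
    · rintro x ⟨c, hc, k, hk, rfl⟩
      have := hgen (d * c) (C.mul_mem hd hc) k hk
      have e : d * (c * k * c⁻¹) * d⁻¹ = d * c * k * (d * c)⁻¹ := by group
      rw [e]
      exact this
    · simp
    · intro a b _ _ ha hb
      have e : d * (a * b) * d⁻¹ = (d * a * d⁻¹) * (d * b * d⁻¹) := by group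
      rw [e]
      exact N.mul_mem ha hb
    · intro a _ ha
      have e : d * a⁻¹ * d⁻¹ = (d * a * d⁻¹)⁻¹ := by group
      rw [e]
      exact N.inv_mem ha
  · have hle : N ≤ Subgroup.normalizer (K : Set G) := by
      refine (Subgroup.closure_le _).2 ?_
      rintro x ⟨c, hc, k, hk, rfl⟩
      rcases hn c hc with h1 | h1
      · apply Subgroup.le_normalizer
        exact h1 k hk
      · refine Subgroup.centralizer_le_normalizer _ ?_
        rw [Subgroup.mem_centralizer_iff]
        intro l hl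
        exact (h1 k hk l hl).symm
    intro c hc k hk
    exact (Subgroup.mem_normalizer_iff.1 (hle hc) k).1 hk

theorem NB.of_odd_le (Q : Subgroup G) (hQ : IsPGroup 2 Q) (N : Subgroup G)
    (hNQ : N ≤ Subgroup.centralizer (Q : Set G))
    (hnN : ∀ c ∈ Subgroup.centralizer (Q : Set G), ∀ k ∈ N, c * k * c⁻¹ ∈ N)
    (hodd : Odd (Nat.card N)) (h1 : N ≠ ⊥) : NB G := by
  apply NB.of_centralizer Q hQ
  have hN : (N.subgroupOf (Subgroup.centralizer (Q : Set G))).Normal := by
    constructor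
    intro k hk c
    rw [Subgroup.mem_subgroupOf] at hk ⊢
    exact hnN c c.2 _ hk
  refine NB.of_odd_normal (N.subgroupOf (Subgroup.centralizer (Q : Set G))) ?_ ?_
  · rw [Nat.card_congr (Subgroup.subgroupOfEquivOfLe hNQ).toEquiv]
    exact hodd
  · intro h
    apply h1
    rw [Subgroup.subgroupOf_eq_bot] at h
    rw [eq_bot_iff]
    intro x hx
    rw [disjoint_iff_inf_le] at h
    exact h ⟨hx, hNQ hx⟩

/-- All elements of odd order of `C_G(Q)` commute, and there is a nontrivial one. -/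
theorem NB.of_odd_elements (Q : Subgroup G) (hQ : IsPGroup 2 Q)
    (hcomm : ∀ x ∈ Subgroup.centralizer (Q : Set G), ∀ y ∈ Subgroup.centralizer (Q : Set G),
      Odd (orderOf x) → Odd (orderOf y) → x * y = y * x)
    {x : G} (hx : x ∈ Subgroup.centralizer (Q : Set G)) (ho : Odd (orderOf x)) (hx1 : x ≠ 1) :
    NB G := by
  set C := Subgroup.centralizer (Q : Set G) with hC
  let N : Subgroup G :=
    { carrier := {y | y ∈ C ∧ Odd (orderOf y)}
      one_mem' := ⟨C.one_mem, by simp⟩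
      mul_mem' := by
        rintro a b ⟨ha, ha'⟩ ⟨hb, hb'⟩
        refine ⟨C.mul_mem ha hb, ?_⟩
        have h1 : Commute a b := hcomm a ha b hb ha' hb'
        have h2 := h1.orderOf_mul_dvd_mul_orderOf
        exact Odd.of_dvd_nat (ha'.mul hb') h2
      inv_mem' := by
        rintro a ⟨ha, ha'⟩
        exact ⟨C.inv_mem ha, by rwa [orderOf_inv]⟩ }
  refine NB.of_odd_le Q hQ N (fun y hy => hy.1) ?_ ?_ ?_
  · rintro c hc k ⟨hk, hk'⟩
    refine ⟨C.mul_mem (C.mul_mem hc hk) (C.inv_mem hc), ?_⟩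
    have e : orderOf (c * k * c⁻¹) = orderOf k := by
      have : c * k * c⁻¹ = MulAut.conj c k := rfl
      rw [this]
      exact MulEquiv.orderOf_eq (MulAut.conj c) k
    rw [e]
    exact hk'
  · by_contra hcon
    rw [Nat.not_odd_iff_even] at hcon
    have : Fact (Nat.Prime 2) := ⟨Nat.prime_two⟩
    obtain ⟨y, hy⟩ := exists_prime_orderOf_dvd_card' (G := N) 2 (even_iff_two_dvd.1 hcon)
    have h1 : Odd (orderOf (y : G)) := y.2.2
    rw [Subgroup.orderOf_coe, hy] at h1
    exact (Nat.not_odd_iff_even.2 even_two) h1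
  · intro h
    apply hx1
    have : x ∈ N := ⟨hx, ho⟩
    rwa [h, Subgroup.mem_bot] at this

/-- A nonprincipal irreducible character whose degree is a power of two. -/
theorem NB.of_degree [IsSimpleGroup G] (hna : ¬ IsMulCommutative G) {χ : G → ℂ}
    (hχ : IsIrrCharacter G χ) {k : ℕ} (hdeg : χ 1 = (2 : ℂ) ^ k) (h1 : χ ≠ fun _ => 1) :
    NB G := by
  intro M hM
  have : Fact (Nat.Prime 2) := ⟨Nat.prime_two⟩
  refine ⟨⟨χ, hχ⟩, fun hmem => h1 ?_⟩
  have hna' : ∃ a b : G, a * b ≠ b * a := by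
    by_contra hcon
    push Not at hcon
    exact hna ⟨⟨hcon⟩⟩
  exact S0910.result 2 M hM hna' ⟨χ, hχ⟩ hmem k (by exact_mod_cast hdeg)

/-- from a degree which is a power of two and not one -/
theorem NB.of_degree' [IsSimpleGroup G] (hna : ¬ IsMulCommutative G) {χ : G → ℂ}
    (hχ : IsIrrCharacter G χ) {k : ℕ} (hdeg : χ 1 = (2 : ℂ) ^ (k + 1)) : NB G := by
  refine NB.of_degree hna hχ hdeg ?_
  intro h
  rw [h] at hdeg
  have h2 : ((2 ^ (k + 1) : ℕ) : ℂ) = ((1 : ℕ) : ℂ) := by
    push_cast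
    exact hdeg.symm
  have h3 : 2 ^ (k + 1) = 1 := by exact_mod_cast h2
  have h4 : 1 < 2 ^ (k + 1) := Nat.one_lt_two_pow (Nat.succ_ne_zero k)
  omega

end

/-- groups of Lie type in characteristic two -/
theorem NB.of_lie_two {G : Type u} [Group G] [Finite G] [IsSimpleGroup G]
    (hna : ¬ IsMulCommutative G) (h : IsLieTypeChar 2 G) : NB G := by
  obtain ⟨χ, hχ, h1, -⟩ := H167.StChar.hasSt_of_lie Nat.prime_two h
  have heven : 2 ∣ Nat.card G := by
    by_contra h2
    have ho : Odd (Nat.card G) := by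
      rw [← Nat.not_even_iff_odd, even_iff_two_dvd]
      exact h2
    exact hna ⟨⟨IsSimpleGroup.comm_iff_isSolvable.2 (S0205.result ho)⟩⟩
  have hpos : 1 ≤ (Nat.card G).factorization 2 := by
    have : (Nat.Prime 2) := Nat.prime_two
    rw [← this.dvd_iff_one_le_factorization Nat.card_pos.ne']
    exact heven
  obtain ⟨k, hk⟩ : ∃ k, (Nat.card G).factorization 2 = k + 1 := ⟨_, (Nat.sub_add_cancel hpos).symm⟩
  refine NB.of_degree' hna hχ (k := k) ?_
  rw [h1, hk]
  push_cast
  rfl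

theorem NB.of_loc {G : Type u} [Group G] [Finite G] (h : H652.Four.Loc G) : NB G := by
  intro M hM
  obtain ⟨χ, hχ⟩ := h.not_one_block hM
  exact ⟨χ, hχ⟩

end Cfsg.Agent.H526.OB
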