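import Cfsg.Agent.H526.SpGen
import Cfsg.Agent.TypeM.FactsMcL
import Cfsg.Agent.McLType.ThreeElts
import Cfsg.Agent.Schreier.CoTwoStab

/-!
# `FullP 3` for `McL` and `Co2` (helper526)
-/

set_option autoImplicit false

namespace Cfsg.Agent.H526.SpMcL

open Subgroup Cfsg Cfsg.Agent.H749 Cfsg.Agent.H792.SpTool Cfsg.Agent.H526.SpGen
open Cfsg.Agent.McLType.ThreeElts Cfsg.Agent.McLType.X275 Cfsg.Agent.McLType.Model

theorem prime_three : Fact (Nat.Prime 3) := ⟨Nat.prime_three⟩

/-- centralizers of type `2.A_n` -/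
theorem fullP_cover {p : ℕ} [Fact p.Prime] (hp2 : p ≠ 2) {n : ℕ} (hn : 5 ≤ n) {C : Type*} [Group C] [Finite C]
    (K : SporRec.TwoAn.Cover (Fin n) C) : FullP p C := by
  obtain ⟨π, hπ, -⟩ := TypeM.CoverTools.exists_isCover_of K (by omega)
  refine fullP_of_surjective_pprime π hπ.surj ?_ (fullP_of_full (H794.full_alt hp2 ⟨n, hn, ⟨MulEquiv.refl _⟩⟩))
  intro h
  have h1 : Nat.card π.ker ∣ 2 := by
    have h2 : π.ker = zpowers K.z := by
      ext x
      rw [MonoidHom.mem_ker, hπ.ker, mem_zpowers_iff]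
      constructor
      · rintro (rfl | rfl)
        · exact ⟨0, zpow_zero _⟩
        · exact ⟨1, zpow_one _⟩
      · rintro ⟨k, rfl⟩
        rcases Int.even_or_odd k with ⟨m, rfl⟩ | ⟨m, rfl⟩
        · left
          rw [← two_mul, zpow_mul]
          have : K.z ^ (2 : ℤ) = 1 := by rw [zpow_two, hπ.z_mul]
          rw [this, one_zpow]
        · right
          rw [zpow_add, zpow_mul]
          have : K.z ^ (2 : ℤ) = 1 := by rw [zpow_two, hπ.z_mul]
          rw [this, one_zpow, one_mul, zpow_one]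
    rw [h2, Nat.card_zpowers]
    exact orderOf_dvd_of_pow_eq_one (by rw [pow_two, hπ.z_mul])
  have h3 := h.trans h1
  have hp := (Fact.out : p.Prime)
  exact hp2 ((Nat.prime_dvd_prime_iff_eq hp Nat.prime_two).1 h3)

/-- the Sylow 3-subgroup of `G1` is generated by elements with cube `1` -/
theorem exists_sylow : ∃ S : Sylow 3 G1, (S : Subgroup G1) ≤ closure {x | x ^ 3 = 1 ∧ x ∈ (S : Subgroup G1)} := by
  classical
  have hcard : Nat.card (P.comap ψ) = 3 ^ (Nat.card G1).factorization 3 := by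
    have h1 : Nat.card (P.comap ψ) = Nat.card P := by
      have h2 : (P.comap ψ).map ψ = P := by
        rw [Subgroup.map_comap_eq_self]
        intro y hy
        obtain ⟨g, hg⟩ := mem_K0_iff.1 (P_le_K0 hy)
        exact ⟨g, hg⟩
      rw [← h2, Subgroup.comap_map_eq_self_of_injective ψ_injective]
      exact Nat.card_congr ((P.comap ψ).equivMapOfInjective ψ ψ_injective).toEquiv
    rw [h1, card_P, card_G1]
    have h3 : (898128000 : ℕ) = 3 ^ 6 * 1232000 := by norm_num
    have h4 : (898128000 : ℕ).factorization 3 = 6 := by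
      rw [h3, Nat.factorization_mul (by norm_num) (by norm_num), Finsupp.add_apply,
        Nat.factorization_pow, Finsupp.smul_apply, Nat.Prime.factorization_self Nat.prime_three,
        Nat.factorization_eq_zero_of_not_dvd (by norm_num)]
      rfl
    rw [h4]
    norm_num
  have := prime_three
  refine ⟨Sylow.ofCard (P.comap ψ) hcard, ?_⟩
  intro x hx
  have hx' : ψ x ∈ P := hx
  set T : Subgroup G1 := closure {x | x ^ 3 = 1 ∧ x ∈ ((Sylow.ofCard (P.comap ψ) hcard : Sylow 3 G1) : Subgroup G1)} with hT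
  have hle : P ≤ T.map ψ := by
    rw [P, closure_le]
    rintro _ ⟨s, -, hs, rfl⟩
    obtain ⟨g, hg⟩ := mem_K0_iff.1 (P_le_K0 (π_mem s hs))
    refine ⟨g, subset_closure ⟨ψ_injective ?_, ?_⟩, hg⟩
    · rw [map_pow, hg, π_cube s hs, map_one]
    · show ψ g ∈ P
      rw [hg]
      exact π_mem s hs
  obtain ⟨y, hy, e⟩ := hle hx'
  rw [← ψ_injective e]
  exact hy

theorem fullP_mcl_three {G : Type*} [Group G] [Finite G] (h : Cfsg.Spor.IsoMcL G) : FullP 3 G := by
  have := prime_three
  suffices h1 : FullP 3 G1 by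
    obtain ⟨e⟩ := h
    obtain ⟨e'⟩ := isoMcL_G1
    exact FullP.of_mulEquiv (e'.trans e.symm) h1
  obtain ⟨-, -, -, ⟨L⟩⟩ := TypeM.FactsMcL.facts isoMcL_G1
  obtain ⟨S, hS⟩ := exists_sylow
  refine fullP_of_one_class L.one (fullP_cover (by norm_num) (by norm_num) L.K) (fun x hx => ?_) S hS
  obtain ⟨s, hs, hsx⟩ := exists_commuting_involution x hx
  refine ⟨s, ?_, ?_, hsx⟩
  · rw [← pow_two, ← hs, pow_orderOf_eq_one]
  · rintro rfl
    rw [orderOf_one] at hs
    exact absurd hs (by norm_num)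

/-! ### `Co2` -/

theorem mcl_le_co2 : Spor.McL ≤ Spor.Co2 := fun _ hx => ⟨hx.1.1, hx.2⟩

theorem fullP_co2_three {G : Type*} [Group G] [Finite G] (h : Cfsg.Spor.IsoCo2 G) : FullP 3 G := by
  have := prime_three
  obtain ⟨e⟩ := h
  have hf := Schreier.CoTwoStab.finite
  suffices h1 : FullP 3 Spor.Co2 from FullP.of_mulEquiv e.symm h1
  obtain ⟨hf1, -, hcard, -⟩ := TypeM.FactsMcL.exists_mt_mcl
  refine fullP_of_hom (Subgroup.inclusion mcl_le_co2) ?_ (fullP_mcl_three ⟨MulEquiv.refl _⟩)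
  intro h3
  have h2 : Nat.card (Subgroup.inclusion mcl_le_co2).range = 898128000 := by
    rw [← hcard]
    exact (Nat.card_congr (MonoidHom.ofInjective (Subgroup.inclusion_injective mcl_le_co2)).toEquiv).symm
  have h4 := Subgroup.card_mul_index (Subgroup.inclusion mcl_le_co2).range
  rw [h2, Schreier.CoTwoStab.card] at h4
  have h5 : (Subgroup.inclusion mcl_le_co2).range.index = 47104 := by omega
  rw [h5] at h3
  exact absurd h3 (by norm_num)

end Cfsg.Agent.H526.SpMcL
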