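import Mathlib
import Cfsg.Agent.H526.ObComp
import Cfsg.Agent.H912.KnownSplit
import Cfsg.Agent.H215.NBAlt
import Cfsg.Agent.H102.NbPslTwo
import Cfsg.Agent.H387.NbPsp
import Cfsg.Agent.H158.ObOrth
import Cfsg.Agent.H622.OB.Exc
import Cfsg.Agent.H622.OB.G2
import Cfsg.Agent.H968.NBG23
import Cfsg.Agent.H113.OB.Psu
import Cfsg.Agent.H128.ObPsl
import Cfsg.Agent.H280.ObFold
import Cfsg.Agent.H280.ObTwE
import Cfsg.Agent.H280.ObRee
import Cfsg.Agent.H215.NBTits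
import Cfsg.Agent.H547.OB.J3
import Cfsg.Agent.H663.ObCo2
import Cfsg.Agent.H894.J4Two
import Cfsg.Agent.H547.OB.M23
import Cfsg.Agent.H547.OB.Ly
import Cfsg.Agent.H654.FourRows
import Cfsg.Agent.H287.Blk.HN
import Cfsg.Agent.H287.Blk.HS
import Cfsg.Agent.H287.Blk.CoThree
import Cfsg.Agent.H287.Blk.MTw
import Cfsg.Agent.H52.FourMcL
import Cfsg.Agent.H52.FourRu
import Cfsg.Agent.H326.Four.RowSuz
import Cfsg.Agent.H326.Four.RowHe
import Cfsg.Agent.H326.Four.RowON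
import Cfsg.Agent.H686.Four.Co1
import Cfsg.Agent.H657.FourFi.Fi22
import Cfsg.Agent.H657.FourFi.Fi23
import Cfsg.Agent.H657.FourFi.Fi24
import Cfsg.Agent.H648.Loc.RowB
import Cfsg.Agent.H648.Loc.RowM

/-!
# The known simple groups other than M22 and M24 have more than one 2-block
-/

set_option autoImplicit false
open Cfsg

namespace Cfsg.Agent.H526.OB

open Cfsg.Agent

universe u

theorem hpsl2 (K : Type) [Field K] [Fintype K] (h2 : Odd (Fintype.card K))
    (h3 : 3 < Fintype.card K) : NB (Matrix.ProjectiveSpecialLinearGroup (Fin 2) K) :=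
  H102.NbPslTwo.nb_psl2 h2 h3

theorem exists_quadratic (F : Type) [Field F] [Fintype F] :
    ∃ (K : Type) (_ : Field K) (_ : Fintype K), Fintype.card K = Fintype.card F ^ 2 := by
  obtain ⟨p, hp⟩ := CharP.exists F
  have hpr : p.Prime := CharP.char_is_prime F p
  have : Fact p.Prime := ⟨hpr⟩
  obtain ⟨n, hn⟩ := FiniteField.card F p
  have hpos : (2 * (n : ℕ)) ≠ 0 := by
    have := n.pos
    omega
  refine ⟨GaloisField p (2 * n), inferInstance, Fintype.ofFinite _, ?_⟩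
  let _ : Fintype (GaloisField p (2 * n)) := Fintype.ofFinite _
  rw [← Nat.card_eq_fintype_card, GaloisField.card p _ hpos, hn.2, ← pow_mul, mul_comm]

theorem small (F : Type) [Field F] [Fintype F] (h2 : Odd (Fintype.card F)) :
    H158.ObOrth.Small F where
  psp := H387.NbPsp.nb_psp h2 le_rfl hpsl2
  psl := H128.ObPsl.nb_psl h2 (by norm_num) hpsl2
  psu := by
    obtain ⟨K, i1, i2, hK⟩ := exists_quadratic F
    exact ⟨K, i1, i2, hK, H113.OB.nb_psu hK h2 (by norm_num) hpsl2⟩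

theorem odd_card {F : Type} [Field F] [Fintype F] {p : ℕ} (hp2 : p ≠ 2) [CharP F p] :
    Odd (Fintype.card F) := by
  have h1 : ringChar F ≠ 2 := by rw [ringChar.eq F p]; exact hp2
  rw [Nat.odd_iff]
  exact FiniteField.odd_card_of_char_ne_two h1

/-- groups of Lie type in odd characteristic -/
theorem nb_lie_odd {S : Type u} [Group S] [Finite S] {p : ℕ} (hp2 : p ≠ 2)
    (h : IsLieTypeChar p S) : NB S := by
  rcases h with h | h | h | h | h | h | h | h | ⟨h, -⟩ | ⟨h, -⟩ | ⟨-, h⟩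
  · obtain ⟨F, _, _, _, n, h1, h3, ⟨f⟩⟩ := h
    refine NB.iso f.symm ?_
    rcases Nat.lt_or_ge n 3 with hn | hn
    · have hn2 : n = 2 := by omega
      subst hn2
      exact hpsl2 F (odd_card hp2) (lt_of_lt_of_le (by norm_num) (h3 rfl))
    · exact H128.ObPsl.nb_psl (odd_card hp2) hn hpsl2
  · obtain ⟨F, _, _, _, m, h1, -, ⟨f⟩⟩ := h
    exact NB.iso f.symm (H387.NbPsp.nb_psp (odd_card hp2) h1 hpsl2)
  · obtain ⟨F, _, _, _, n, q, h1, h3, -, ⟨f⟩⟩ := h
    refine NB.iso f.symm (H113.OB.nb_psu h1 ?_ h3 hpsl2)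
    have h4 : Odd (Fintype.card F) := odd_card hp2
    rw [h1] at h4
    exact (Nat.odd_pow_iff (by norm_num)).1 h4
  · obtain ⟨F, _, _, _, m, h1, h2, ⟨f⟩⟩ := h
    exact NB.iso f.symm (H158.ObOrth.nb_omega_odd (small F h2) h2 h1)
  · obtain ⟨F, _, _, _, m, h1, ⟨f⟩⟩ := h
    have h2 : Odd (Fintype.card F) := odd_card hp2
    exact NB.iso f.symm (H158.ObOrth.nb_omega_plus (small F h2) h2 h1)
  · obtain ⟨F, _, _, _, m, a, b, h1, h3, ⟨f⟩⟩ := h
    have h2 : Odd (Fintype.card F) := odd_card hp2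
    exact NB.iso f.symm (H158.ObOrth.nb_omega_minus (small F h2) h2 h1 a b h3)
  · obtain ⟨F, _, _, _, h⟩ := h
    have h2 : Odd (Fintype.card F) := odd_card hp2
    have h33 : ∀ (F : Type) [Field F] [Fintype F], Odd (Fintype.card F) →
        NB (Matrix.ProjectiveSpecialLinearGroup (Fin 3) F) :=
      fun F _ _ h => H128.ObPsl.nb_psl h le_rfl hpsl2
    rcases h with ⟨h3, ⟨f⟩⟩ | ⟨⟨f⟩⟩ | ⟨⟨f⟩⟩ | ⟨⟨f⟩⟩ | ⟨⟨f⟩⟩
    · refine NB.iso f.symm ?_
      rcases Nat.eq_or_lt_of_le h3 with h4 | h4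
      · exact H968.NBG23.nb_g23 h4.symm
      · exact H622.OB.nb_g2 h2 (hpsl2 F h2 h4)
    · exact NB.iso f.symm (H622.OB.nb_f4 h2 h33)
    · exact NB.iso f.symm (H622.OB.nb_e6 h2 h33)
    · exact NB.iso f.symm (H622.OB.nb_e7 h2 h33)
    · exact NB.iso f.symm (H622.OB.nb_e8 h2 h33)
  · obtain ⟨K, _, _, _, q, hq, h⟩ := h
    have h2 : Odd (Fintype.card K) := odd_card hp2
    rcases h with ⟨h1, ⟨f⟩⟩ | ⟨h1, ⟨f⟩⟩
    · refine NB.iso f.symm (H280.ObTwE.nb_2e6 hq ?_ h1 hpsl2)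
      rw [h1] at h2
      exact (Nat.odd_pow_iff (by norm_num)).1 h2
    · refine NB.iso f.symm (H280.ObFold.nb_3d4 hq ?_ h1)
      rw [h1] at h2
      exact (Nat.odd_pow_iff (by norm_num)).1 h2
  · exact absurd h hp2
  · exact absurd h hp2
  · exact H280.ObRee.nb_ree h hpsl2

/-- the sporadic groups -/
theorem nb_sporadic (th : ∀ (S : Type u) [Group S] [Finite S], Spor.IsoTh S → NB S)
    {S : Type u} [Group S] [Finite S] (h : IsSporadicGroup S)
    (h22 : ¬ Spor.IsoM22 S) (h24 : ¬ Spor.IsoM24 S) : NB S := by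
  rcases h with h | h | h | h | h | h | h | h | h | h | h | h | h | h | h | h | h | h |
      h | h | h | h | h | h | h | h
  · exact NB.of_loc (H654.FourRows.loc_M11 h)
  · exact NB.of_loc (H287.Blk.loc_M12 h)
  · exact absurd h h22
  · exact H547.OB.M23.nb_m23 h
  · exact absurd h h24
  · exact NB.of_loc (H654.FourRows.loc_J1 h)
  · exact NB.of_loc (H654.FourRows.loc_J2 h)
  · exact H547.OB.J3.nb_j3 h
  · obtain ⟨e⟩ := h
    exact NB.iso e.symm H894.J4Two.nb_J4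
  · exact NB.of_loc (H686.Four.CoOne.loc_Co1 h)
  · exact H663.ObCo2.nb_co2 h
  · exact NB.of_loc (H287.Blk.loc_Co3 h)
  · exact NB.of_loc (H52.FourMcL.loc_McL h)
  · exact NB.of_loc (H287.Blk.loc_HS h)
  · exact NB.of_loc (H326.Four.RowSuz.loc_Suz h)
  · exact NB.of_loc (H326.Four.RowHe.loc_He h)
  · exact NB.of_loc (H52.FourRu.loc_Ru h)
  · exact NB.of_loc (H326.Four.RowON.loc_ON h)
  · exact H547.OB.Ly.nb_ly h (H215.NBAlt.nb_alt (by norm_num))
  · exact NB.of_loc (H657.FourFi.loc_Fi22 h)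
  · exact NB.of_loc (H657.FourFi.loc_Fi23 h)
  · exact NB.of_loc (H657.FourFi.loc_Fi24 h)
  · exact NB.of_loc (H287.Blk.loc_HN h)
  · exact th S h
  · exact NB.of_loc (H648.Loc.loc_B h)
  · exact NB.of_loc (H648.Loc.loc_M h)

/-- **The known simple groups.** -/
theorem nb_known (th : ∀ (S : Type u) [Group S] [Finite S], Spor.IsoTh S → NB S)
    {S : Type u} [Group S] [Finite S] [IsSimpleGroup S]
    (hna : ¬ IsMulCommutative S) (h : IsKnownSimple' S)
    (h22 : ¬ Spor.IsoM22 S) (h24 : ¬ Spor.IsoM24 S) : NB S := by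
  have hc : ¬ IsPrimeCyclic S := by
    intro h1
    have : Fact (Nat.card S).Prime := ⟨h1⟩
    have hcyc : IsCyclic S := isCyclic_of_prime_card (p := Nat.card S) rfl
    obtain ⟨g, hg⟩ := hcyc.exists_generator
    refine hna ⟨⟨fun a b => ?_⟩⟩
    obtain ⟨i, rfl⟩ := Subgroup.mem_zpowers_iff.1 (hg a)
    obtain ⟨j, rfl⟩ := Subgroup.mem_zpowers_iff.1 (hg b)
    rw [← zpow_add, ← zpow_add, add_comm]
  rcases H912.Known.known_split h hc with h | ⟨p, hp, h⟩ | h | h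
  · obtain ⟨n, hn, ⟨f⟩⟩ := h
    exact NB.iso f.symm (H215.NBAlt.nb_alt hn)
  · by_cases hp2 : p = 2
    · subst hp2
      exact NB.of_lie_two hna h
    · exact nb_lie_odd hp2 h
  · exact H215.NBTits.nb_tits h
  · exact nb_sporadic th h h22 h24

end Cfsg.Agent.H526.OB
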