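import Mathlib
import Cfsg.Agent.S1459
import Cfsg.Agent.S4646
import Cfsg.Agent.H657.PrinQuot
import Cfsg.Agent.H684.BlockQuot

/-!
# The principal block with four characters: the case of rank one

`card_of_rank_one`: if the principal `p`-block has `4` characters and `p`-regular rank `1` then
a Sylow `p`-subgroup has order `4`.
-/

set_option autoImplicit false
open Cfsg

namespace Cfsg.Agent.H526.FourRankOne

open Cfsg.Agent

/-- The classes map onto the abelianization. -/
noncomputable def toAb (Q : Type*) [Group Q] : ConjClasses Q → Abelianization Q :=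
  Quotient.lift (fun x => Abelianization.of x) (by
    intro a b h
    obtain ⟨c, hc⟩ := isConj_iff.mp (show IsConj a b from h)
    show Abelianization.of a = Abelianization.of b
    rw [← hc, map_mul, map_mul, mul_comm, map_inv, inv_mul_cancel_left])

theorem toAb_surjective (Q : Type*) [Group Q] : Function.Surjective (toAb Q) := by
  intro a
  obtain ⟨x, rfl⟩ := QuotientGroup.mk_surjective a
  exact ⟨ConjClasses.mk x, rfl⟩

/-- A `p`-group with exactly four classes has order `4`. -/
theorem card_four {p : ℕ} [hp : Fact p.Prime] {Q : Type*} [Group Q] [Finite Q] (hQ : IsPGroup p Q)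
    (h4 : Nat.card (ConjClasses Q) = 4) : Nat.card Q = 4 := by
  have : Finite (ConjClasses Q) := Quotient.finite _
  have hle : Nat.card (Abelianization Q) ≤ 4 := by
    rw [← h4]; exact Nat.card_le_card_of_surjective _ (toAb_surjective Q)
  have hfin : Finite (Abelianization Q) := inferInstance
  have habel : commutator Q = ⊥ → Nat.card Q = 4 := by
    intro hb
    have hinj : Function.Bijective (ConjClasses.mk : Q → ConjClasses Q) := by
      refine ⟨fun a b h => ?_, fun c => ?_⟩
      · obtain ⟨c, hc⟩ := isConj_iff.mp (ConjClasses.mk_eq_mk_iff_isConj.mp h)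
        have h1 : c * a * c⁻¹ * a⁻¹ ∈ commutator Q := by
          have h0 := Subgroup.commutator_mem_commutator (Subgroup.mem_top c) (Subgroup.mem_top a)
          rw [commutatorElement_def] at h0
          exact h0
        rw [hb, Subgroup.mem_bot] at h1
        rw [← hc]
        exact (mul_inv_eq_one.mp h1).symm
      · induction c using Quotient.inductionOn with
        | h x => exact ⟨x, rfl⟩
    rw [← h4]
    exact Nat.card_congr (Equiv.ofBijective _ hinj)
  apply habel
  have hnil : Group.IsNilpotent Q := hQ.isNilpotent
  rcases lt_or_eq_of_le hle with hlt | heq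
  · -- cyclic
    apply S1459.commutator_eq_bot_of_cyclic
    have hpos : 0 < Nat.card (Abelianization Q) := Nat.card_pos
    have : Nat.card (Abelianization Q) = 1 ∨ (Nat.card (Abelianization Q)).Prime := by
      interval_cases h : Nat.card (Abelianization Q)
      · exact Or.inl rfl
      · exact Or.inr Nat.prime_two
      · exact Or.inr Nat.prime_three
    rcases this with h | h
    · have := (Nat.card_eq_one_iff_unique.mp h).1
      exact (isCyclic_of_subsingleton : IsCyclic (Abelianization Q))
    · have : Fact (Nat.card (Abelianization Q)).Prime := ⟨h⟩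
      exact (isCyclic_of_prime_card rfl : IsCyclic (Abelianization Q))
  · -- the map is injective
    have hbij : Function.Bijective (toAb Q) := by
      rw [Nat.bijective_iff_surjective_and_card]
      exact ⟨toAb_surjective Q, by rw [h4, heq]⟩
    rw [eq_bot_iff]
    intro x hx
    have h1 : toAb Q (ConjClasses.mk x) = toAb Q (ConjClasses.mk 1) := by
      show (QuotientGroup.mk x : Q ⧸ commutator Q) = QuotientGroup.mk 1
      rw [(QuotientGroup.eq_one_iff x).mpr hx]
      rfl
    have h2 := ConjClasses.mk_eq_mk_iff_isConj.mp (hbij.1 h1)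
    rw [Subgroup.mem_bot]
    exact isConj_one_left.mp h2

variable {G : Type*} [Group G] [Finite G] {p : ℕ} [hp : Fact p.Prime] {M : Ideal AlgInt}

theorem card_of_rank_one (hM : IsPModular p M) (hk : Nat.card (principalBlock M G) = 4)
    (hl : blockRank p (principalBlock M G) = 1) (P : Sylow p G) :
    Nat.card (P : Subgroup G) = 4 := by
  classical
  let _ : Fintype G := Fintype.ofFinite G
  obtain ⟨P₀, N, hN, hc⟩ := S4646.compl_of_rank_one hM hl
  have := hN
  have hcN : Nat.card N * Nat.card (P₀ : Subgroup G) = Nat.card G := hc.card_mul_card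
  have hidx : (P₀ : Subgroup G).index = Nat.card N := by
    have h1 := Subgroup.card_mul_index (P₀ : Subgroup G)
    have h2 : Nat.card (P₀ : Subgroup G) * (P₀ : Subgroup G).index =
        Nat.card (P₀ : Subgroup G) * Nat.card N := by rw [h1, ← hcN, mul_comm]
    exact Nat.eq_of_mul_eq_mul_left Nat.card_pos h2
  have hpN : ¬ p ∣ Nat.card N := by
    rw [← hidx]; exact P₀.not_dvd_index
  have hq : Nat.card (G ⧸ N) = Nat.card (P₀ : Subgroup G) := by
    have h1 := Subgroup.card_mul_index N
    have h2 : Nat.card N * N.index = Nat.card N * Nat.card (P₀ : Subgroup G) := by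
      rw [h1, ← hcN]
    have h3 := Nat.eq_of_mul_eq_mul_left Nat.card_pos h2
    rw [← h3]; rfl
  have hQ : IsPGroup p (G ⧸ N) := by
    obtain ⟨k, hk⟩ := P₀.isPGroup'.exists_card_eq
    exact IsPGroup.of_card (n := k) (by rw [hq, hk])
  have h1 : Nat.card (ConjClasses (G ⧸ N)) ≤ 4 := by
    rw [← hk]
    refine H684.BlockQuot.card_classes_quotient_le N hM (U := ⊥) IsPGroup.of_bot bot_le ?_ ?_
    · rw [eq_top_iff]
      refine le_trans ?_ le_sup_right
      intro x _
      rw [Subgroup.mem_normalizer_iff]
      intro h
      simp
    · intro g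
      exact ⟨(hQ g).choose, (Subtype.ext_iff.mpr (by simpa using (hQ g).choose_spec))⟩
  have h2 : 4 ≤ Nat.card (ConjClasses (G ⧸ N)) := by
    rw [← hk, H657.PrinQuot.card_eq hM N hpN, ← Characters.Core.card_irr]
    have : Finite (IrrCharacter (G ⧸ N)) := Characters.Core.finite_irr
    exact Nat.card_le_card_of_injective _ Subtype.val_injective
  have h3 := card_four hQ (le_antisymm h1 h2)
  rw [← h3, hq]
  exact Nat.card_congr (Sylow.equiv P P₀).toEquiv

end Cfsg.Agent.H526.FourRankOne
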