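import Mathlib
import Cfsg.Agent.H526.FourRankOne
import Cfsg.Agent.H634.Small

/-!
# The principal block with four characters (S4875): assembly

`four_or_five`: the case distinction on the `p`-regular rank of a principal block with four
characters; rank two (S4615) and rank three (S4616) are hypotheses here.
-/

set_option autoImplicit false
open Cfsg

namespace Cfsg.Agent.H526.FourMain

universe u

open Cfsg.Agent Cfsg.Agent.H634 Cfsg.Agent.H634.ZJ Cfsg.Agent.H634.Fus Cfsg.Agent.H634.HypS

theorem four_or_five {G : Type u} [Group G] [Finite G] {p : ℕ} [hp : Fact p.Prime]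
    {M : Ideal AlgInt} (hM : IsPModular p M) (hk : Nat.card (principalBlock M G) = 4)
    (P : Sylow p G)
    (h2 : blockRank p (principalBlock M G) = 2 → Nat.card (P : Subgroup G) = 5)
    (h3 : blockRank p (principalBlock M G) = 3 → Nat.card (P : Subgroup G) = 4) :
    Nat.card (P : Subgroup G) = 4 ∨ Nat.card (P : Subgroup G) = 5 := by
  have := Fintype.ofFinite G
  have hpos := Cols.blockRank_pos (G := G) hM
  obtain ⟨n, hn⟩ := Asm.card_sylow_pow P
  by_cases h1 : blockRank p (principalBlock M G) = 1
  · exact Or.inl (FourRankOne.card_of_rank_one hM hk h1 P)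
  · have hn0 : n ≠ 0 := by
      rintro rfl
      exact h1 (S4646.rank_one_of_compl hM (Asm.compl_of_card_one P (by rw [hn, pow_zero])))
    obtain ⟨x, hxP, hx1⟩ := Hyp.exists_ne_one P hn hn0
    have h4 := Cols.rank_add_rank_le hM (PEl.of_mem P.isPGroup' hxP) hx1
    have h5 := Cols.blockRank_pos (G := ↥(Subgroup.centralizer ({x} : Set G))) hM
    have h6 : blockRank p (principalBlock M G) = 2 ∨ blockRank p (principalBlock M G) = 3 := by
      omega
    rcases h6 with h | h
    · exact Or.inr (h2 h)
    · exact Or.inl (h3 h)

end Cfsg.Agent.H526.FourMain
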