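import Mathlib
import Cfsg.Agent.H526.ObKnown
import Cfsg.Agent.S0000
import Cfsg.Agent.H657.OneBlk.Asm

/-!
# Simple groups with one 2-block, from the row of Th
-/

set_option autoImplicit false
open Cfsg

namespace Cfsg.Agent.H526.OB

open Cfsg.Agent

universe u

theorem s5004 (th : ∀ (S : Type u) [Group S] [Finite S], Spor.IsoTh S → NB S)
    {G : Type u} [Group G] [Finite G] [IsSimpleGroup G]
    (hna : ¬ IsMulCommutative G) (M : Ideal Cfsg.AlgInt) (hM : Cfsg.IsPModular 2 M)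
    (h1 : ∀ χ ψ : Cfsg.IrrCharacter G, Cfsg.SameBlock M (χ : G → ℂ) (ψ : G → ℂ)) :
    Cfsg.Spor.IsoM22 G ∨ Cfsg.Spor.IsoM24 G := by
  by_contra hcon
  push Not at hcon
  obtain ⟨χ, hχ⟩ := nb_known th hna S0000.result hcon.1 hcon.2 M hM
  exact hχ (h1 (triv G) χ)

end Cfsg.Agent.H526.OB
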